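import Groth.Agent.EtFound.AbRecollement
import Groth.Agent.EtFound.Strata
import Groth.Agent.EtFound.PullExt
import Mathlib.Topology.Constructible

/-!
# Constructible sheaves are successive extensions of extensions by zero of locally constant sheaves
-/

universe u

open CategoryTheory CategoryTheory.Limits AlgebraicGeometry Opposite Topology
open Groth.Agent.EtFound

set_option autoImplicit false
set_option backward.isDefEq.respectTransparency.types false

namespace Groth.Agent.Filtr13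

/-- A chain of quasi-compact opens adapted to finitely many quasi-compact opens. -/
theorem exists_chain {X : Scheme.{u}} [CompactSpace X] [QuasiSeparatedSpace X] (L : List X.Opens)
    (hL : ∀ U ∈ L, IsCompact (U : Set X)) :
    ∃ (N : ℕ) (V : ℕ → X.Opens), (∀ n, IsCompact (V n : Set X)) ∧ V 0 = ⊥ ∧ V N = ⊤ ∧ (∀ n, V n ≤ V (n + 1)) ∧
      ∀ n, ∀ U ∈ L, ∀ x y, x ∈ V (n + 1) → x ∉ V n → y ∈ V (n + 1) → y ∉ V n → (x ∈ U ↔ y ∈ U) := by
  classical
  induction L with
  | nil =>
    refine ⟨1, fun n => if n = 0 then ⊥ else ⊤, fun n => ?_, by simp, by simp, fun n => ?_, by simp⟩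
    · rcases n with _ | n
      · simp
      · simpa using isCompact_univ (X := X)
    · rcases n with _ | n <;> simp
  | cons W L ih =>
    obtain ⟨N, V, hc, h0, hN, hm, hsep⟩ := ih fun U hU => hL U (List.mem_cons_of_mem _ hU)
    let V' : ℕ → X.Opens := fun n => if n % 2 = 0 then V (n / 2) else V (n / 2) ⊔ (V (n / 2 + 1) ⊓ W)
    have he : ∀ k, V' (2 * k) = V k := fun k => by simp [V']
    have ho : ∀ k, V' (2 * k + 1) = V k ⊔ (V (k + 1) ⊓ W) := fun k => by
      have h : (2 * k + 1) % 2 = 1 := by omega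
      have h' : (2 * k + 1) / 2 = k := by omega
      simp [V', h, h']
    have hcases : ∀ n, (∃ k, n = 2 * k) ∨ ∃ k, n = 2 * k + 1 := fun n => by
      rcases Nat.even_or_odd n with ⟨k, hk⟩ | ⟨k, hk⟩
      · exact Or.inl ⟨k, by omega⟩
      · exact Or.inr ⟨k, by omega⟩
    refine ⟨2 * N, V', fun n => ?_, ?_, (he N).trans hN, fun n => ?_, fun n U hU x y hx hx' hy hy' => ?_⟩
    · rcases hcases n with ⟨k, rfl⟩ | ⟨k, rfl⟩
      · rw [he]; exact hc k
      · rw [ho]
        exact (hc k).union ((hc (k + 1)).inter_of_isOpen (hL W List.mem_cons_self) (V (k + 1)).2 W.2)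
    · exact (he 0).trans h0
    · rcases hcases n with ⟨k, rfl⟩ | ⟨k, rfl⟩
      · rw [he, ho]; exact le_sup_left
      · rw [show 2 * k + 1 + 1 = 2 * (k + 1) by omega, he, ho]
        exact sup_le (hm k) inf_le_left
    · rcases hcases n with ⟨k, rfl⟩ | ⟨k, rfl⟩
      · rw [he] at hx' hy'
        rw [ho] at hx hy
        have hx'' : x ∈ V (k + 1) ∧ x ∈ W := hx.resolve_left hx'
        have hy'' : y ∈ V (k + 1) ∧ y ∈ W := hy.resolve_left hy'
        rcases List.mem_cons.1 hU with rfl | hU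
        · exact iff_of_true hx''.2 hy''.2
        · exact hsep k U hU x y hx''.1 hx' hy''.1 hy'
      · rw [show 2 * k + 1 + 1 = 2 * (k + 1) by omega, he] at hx hy
        rw [ho] at hx' hy'
        rcases List.mem_cons.1 hU with rfl | hU
        · exact iff_of_false (fun h => hx' (Or.inr ⟨hx, h⟩)) (fun h => hy' (Or.inr ⟨hy, h⟩))
        · exact hsep k U hU x y hx (fun h => hx' (Or.inl h)) hy (fun h => hy' (Or.inl h))

theorem isPiece_empty {X : Scheme.{u}} (F : EtCoh.Ab X) : IsPiece F ∅ := by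
  obtain ⟨T, g, hg, hr⟩ := exists_immersion_range (X := X) (S := ∅) isClosed_empty.isLocallyClosed
  refine ⟨T, g, hg, hr, PEmpty, fun i => i.elim, fun x => ?_, fun i => i.elim⟩
  exact ((Set.mem_empty_iff_false _).1 (hr.le ⟨x, rfl⟩)).elim

/-- A constructible sheaf is adapted to a chain of quasi-compact opens. -/
theorem exists_chain_pieces {X : Scheme.{u}} [CompactSpace X] [QuasiSeparatedSpace X] {F : EtCoh.Ab X}
    (hF : EtPBC.IsConstructible F) :
    ∃ (N : ℕ) (V : ℕ → X.Opens), V 0 = ⊥ ∧ V N = ⊤ ∧ (∀ n, V n ≤ V (n + 1)) ∧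
      ∀ n, IsPiece F ((V (n + 1) : Set X) \ (V n : Set X)) ∧ IsConstructible ((V (n + 1) : Set X) \ (V n : Set X)) := by
  classical
  obtain ⟨m, E, hE, hEc, hu⟩ := exists_pieces ((isConstructible_iff_adaptedStrata X F).1 hF)
  have hEc' : ∀ i, IsConstructible (E i) := fun i => by
    have h := (hEc i).preimage_of_isOpenEmbedding (f := ⇑(Homeomorph.Set.univ X).symm)
      (Homeomorph.Set.univ X).symm.isOpenEmbedding
    exact h
  choose S hS hS1 hS2 using fun i => exists_opens_determining (hEc' i)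
  have hfin : (⋃ i, S i).Finite := Set.finite_iUnion hS
  let L : List X.Opens := hfin.toFinset.toList.filterMap fun U => if h : IsOpen U then some ⟨U, h⟩ else none
  have hmem : ∀ U : X.Opens, U ∈ L ↔ (U : Set X) ∈ ⋃ i, S i := fun U => by
    simp only [L, List.mem_filterMap, Finset.mem_toList, Set.Finite.mem_toFinset]
    constructor
    · rintro ⟨U', hU', h⟩
      split_ifs at h with ho
      obtain rfl := Option.some.inj h
      exact hU'
    · exact fun h => ⟨U, h, dif_pos U.isOpen⟩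
  obtain ⟨N, V, hc, h0, hN, hm, hsep⟩ := exists_chain L fun U hU => by
    obtain ⟨i, hi⟩ := Set.mem_iUnion.1 ((hmem U).1 hU)
    exact (hS1 i _ hi).2.isCompact
  refine ⟨N, V, h0, hN, hm, fun n => ⟨?_, ?_⟩⟩
  · rcases Set.eq_empty_or_nonempty ((V (n + 1) : Set X) \ (V n : Set X)) with h | ⟨y, hy, hy'⟩
    · rw [h]; exact isPiece_empty F
    obtain ⟨i, hi⟩ := Set.mem_iUnion.1 (hu.ge (Set.mem_univ y))
    refine (hE i).mono (fun x hx => (hS2 i x y fun U hU => ?_).2 hi)
      ((V (n + 1)).2.isLocallyClosed.inter (V n).2.isClosed_compl.isLocallyClosed)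
    exact hsep n ⟨U, (hS1 i U hU).1⟩ ((hmem _).2 (Set.mem_iUnion.2 ⟨i, hU⟩)) x y hx.1 hx.2 hy hy'
  · have hr : ∀ k, IsConstructible (V k : Set X) := fun k => (hc k).isConstructible (V k).isOpen
    exact (hr _).sdiff (hr n)

section Step

variable {U' U W X : Scheme.{u}} (j' : U' ⟶ X) [IsOpenImmersion j'] (j : U ⟶ X) [IsOpenImmersion j]
  (c : W ⟶ U) [IsClosedImmersion c]

theorem isIso_stalk_counit {Ω : Type u} [Field Ω] [IsSepClosed Ω] (F : EtCoh.Ab X)
    (ξ : Spec (CommRingCat.of Ω) ⟶ X) (hξ : ξ.base (default : Spec (CommRingCat.of Ω)) ∈ Set.range j.base) :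
    IsIso ((EtCoh.stalk ξ).map ((EtShriek.extZeroAdj j).counit.app F)) :=
  isIso_stalk_of_lift j _ ξ hξ fun _ _ _ z => isIso_counit_stalk j z F

theorem mono_counit (F : EtCoh.Ab X) : Mono ((EtShriek.extZeroAdj j).counit.app F) := by
  refine (mono_iff_stalks _).2 fun Ω _ _ ξ => ?_
  by_cases h : ξ.base (default : Spec (CommRingCat.of Ω)) ∈ Set.range j.base
  · exact ((ConcreteCategory.isIso_iff_bijective _).1 (isIso_stalk_counit j F ξ h)).1
  · exact fun a b _ => @Subsingleton.elim _ (AddCommGrpCat.subsingleton_of_isZero (isZero_stalk_extZero j ξ h _)) a b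

/-- Stalks of a sheaf extended by zero at the points of the open. -/
theorem isZero_stalk_extZero_of {G : EtCoh.Ab U}
    {Ω : Type u} [Field Ω] [IsSepClosed Ω] (ξ : Spec (CommRingCat.of Ω) ⟶ X)
    (hξ : ξ.base (default : Spec (CommRingCat.of Ω)) ∈ Set.range j.base)
    (h : ∀ (k : Type u) (_ : Field k) (_ : IsSepClosed k) (z : Spec (CommRingCat.of k) ⟶ U),
      j.base (z.base (default : Spec (CommRingCat.of k))) = ξ.base (default : Spec (CommRingCat.of Ω)) →
      IsZero ((EtCoh.stalk z).obj G)) :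
    IsZero ((EtCoh.stalk ξ).obj ((EtShriek.extZero j).obj G)) := by
  obtain ⟨k, _, _, z, e, he⟩ := exists_lift_extension j ξ hξ
  refine IsZero.of_iso ?_ ((stalkExtIso AddCommGrpCat.{u + 1} ξ e).app _)
  show IsZero ((EtCoh.stalk (e ≫ ξ)).obj _)
  rw [he]
  have hz : j.base (z.base (default : Spec (CommRingCat.of k))) = ξ.base (default : Spec (CommRingCat.of Ω)) := by
    rw [← Scheme.Hom.comp_apply, ← he, Scheme.Hom.comp_apply]
    exact congrArg _ (Subsingleton.elim _ _)
  have h1 := isIso_stalk_unit j (A := AddCommGrpCat.{u + 1}) G z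
  haveI : IsIso (restrStalkMap j z ((EtShriek.extZero j).obj G)) :=
    (ConcreteCategory.isIso_iff_bijective _).2 (restrStalkMap_bijective j z _)
  exact IsZero.of_iso (h k _ _ z hz)
    ((@asIso _ _ _ _ _ h1) ≪≫ asIso (restrStalkMap j z ((EtShriek.extZero j).obj G))).symm

/-- The step of the filtration. -/
theorem exists_step (F : EtCoh.Ab X) (hsub : Set.range j'.base ⊆ Set.range j.base)
    (hr : Set.range (c ≫ j).base = Set.range j.base \ Set.range j'.base) :
    ∃ (ι : (EtShriek.extZero j').obj ((EtShriek.restrAlong j').obj F) ⟶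
        (EtShriek.extZero j).obj ((EtShriek.restrAlong j).obj F))
      (π : (EtShriek.extZero j).obj ((EtShriek.restrAlong j).obj F) ⟶
        (EtShriek.extZero j).obj ((EtCoh.push c).obj ((EtCoh.pull c).obj ((EtShriek.restrAlong j).obj F))))
      (hz : ι ≫ π = 0), (ShortComplex.mk ι π hz).ShortExact := by
  set a := (EtShriek.extZeroAdj j').counit.app F with ha
  set b := (EtShriek.extZeroAdj j).counit.app F with hb
  haveI : Mono b := mono_counit j F
  haveI : Mono a := mono_counit j' F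
  have hab : a ≫ cokernel.π b = 0 := by
    refine eq_of_stalks _ _ fun Ω _ _ ξ => ?_
    by_cases h : ξ.base (default : Spec (CommRingCat.of Ω)) ∈ Set.range j.base
    · haveI := isIso_stalk_counit j F ξ h
      have h0 : (EtCoh.stalk ξ).map (cokernel.π b) = 0 := by
        rw [← cancel_epi ((EtCoh.stalk ξ).map b), ← Functor.map_comp, cokernel.condition, Functor.map_zero, comp_zero]
      show (EtCoh.stalk ξ).map (a ≫ cokernel.π b) = (EtCoh.stalk ξ).map 0
      rw [Functor.map_comp, h0, comp_zero, Functor.map_zero]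
    · exact (isZero_stalk_extZero j' ξ (fun h' => h (hsub h')) _).eq_of_src _ _
  let ι := Abelian.monoLift b a hab
  have hι : ι ≫ b = a := Abelian.monoLift_comp _ _ _
  let G := (EtShriek.restrAlong j).obj F
  let η := (EtCoh.pullPushAdj c).unit.app G
  let π := (EtShriek.extZero j).map η
  -- the three regions
  have hA : ∀ {Ω : Type u} [Field Ω] [IsSepClosed Ω] (ξ : Spec (CommRingCat.of Ω) ⟶ X),
      ξ.base (default : Spec (CommRingCat.of Ω)) ∈ Set.range j'.base →
      IsIso ((EtCoh.stalk ξ).map ι) ∧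
        IsZero ((EtCoh.stalk ξ).obj ((EtShriek.extZero j).obj ((EtCoh.push c).obj ((EtCoh.pull c).obj G)))) := by
    intro Ω _ _ ξ h
    haveI := isIso_stalk_counit j F ξ (hsub h)
    haveI := isIso_stalk_counit j' F ξ h
    refine ⟨?_, isZero_stalk_extZero_of j ξ (hsub h) fun k _ _ z hz => isZero_stalk_push_closed c _ z ?_⟩
    · haveI : IsIso ((EtCoh.stalk ξ).map ι ≫ (EtCoh.stalk ξ).map b) := by
        rw [← Functor.map_comp, hι]; infer_instance
      exact IsIso.of_isIso_comp_right _ ((EtCoh.stalk ξ).map b)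
    · rintro ⟨w, hw⟩
      have h1 : ξ.base (default : Spec (CommRingCat.of Ω)) ∈ Set.range (c ≫ j).base :=
        ⟨w, by rw [Scheme.Hom.comp_apply, hw, hz]⟩
      exact (hr.le h1).2 h
  have hB : ∀ {Ω : Type u} [Field Ω] [IsSepClosed Ω] (ξ : Spec (CommRingCat.of Ω) ⟶ X),
      ξ.base (default : Spec (CommRingCat.of Ω)) ∈ Set.range j.base →
      ξ.base (default : Spec (CommRingCat.of Ω)) ∉ Set.range j'.base →
      IsZero ((EtCoh.stalk ξ).obj ((EtShriek.extZero j').obj ((EtShriek.restrAlong j').obj F))) ∧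
        IsIso ((EtCoh.stalk ξ).map π) := by
    intro Ω _ _ ξ h h'
    refine ⟨isZero_stalk_extZero j' ξ h' _, isIso_stalk_of_lift (c ≫ j) _ ξ (hr.ge ⟨h, h'⟩) fun k _ _ z => ?_⟩
    rw [← Category.assoc]
    refine isIso_stalk_of_restr j (z ≫ c) _ ?_
    haveI h1 := isIso_stalk_unit j (A := AddCommGrpCat.{u + 1}) G (z ≫ c)
    haveI h2 := isIso_stalk_unit j (A := AddCommGrpCat.{u + 1}) ((EtCoh.push c).obj ((EtCoh.pull c).obj G)) (z ≫ c)
    haveI h3 : IsIso ((EtCoh.stalk (z ≫ c)).map η) :=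
      isIso_stalk_unit_closed c G (z ≫ c) ⟨_, (Scheme.Hom.comp_apply _ _ _).symm⟩
    have hn : (EtCoh.stalk (z ≫ c)).map ((EtShriek.extZeroAdj j).unit.app G) ≫
        (EtCoh.stalk (z ≫ c)).map ((EtShriek.restrAlong j).map π) =
        (EtCoh.stalk (z ≫ c)).map η ≫ (EtCoh.stalk (z ≫ c)).map ((EtShriek.extZeroAdj j).unit.app _) := by
      rw [← Functor.map_comp, ← Functor.map_comp]
      exact congrArg _ ((EtShriek.extZeroAdj j).unit.naturality η).symm
    exact @IsIso.of_isIso_fac_left _ _ _ _ _ _ _ _ h1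
      (@IsIso.comp_isIso _ _ _ _ _ _ _ h3 h2) hn
  have hC : ∀ {Ω : Type u} [Field Ω] [IsSepClosed Ω] (ξ : Spec (CommRingCat.of Ω) ⟶ X),
      ξ.base (default : Spec (CommRingCat.of Ω)) ∉ Set.range j.base → ∀ H : EtCoh.Ab U,
      IsZero ((EtCoh.stalk ξ).obj ((EtShriek.extZero j).obj H)) :=
    fun ξ h H => isZero_stalk_extZero j ξ h H
  have w : ι ≫ π = 0 := by
    refine eq_of_stalks _ _ fun Ω _ _ ξ => ?_
    by_cases h' : ξ.base (default : Spec (CommRingCat.of Ω)) ∈ Set.range j'.base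
    · exact (hA ξ h').2.eq_of_tgt _ _
    · exact (isZero_stalk_extZero j' ξ h' _).eq_of_src _ _
  refine ⟨ι, π, w, ShortComplex.ShortExact.mk' ?_ ?_ ?_⟩
  · refine (exact_iff_stalks _).2 fun Ω _ _ ξ => ?_
    by_cases h : ξ.base (default : Spec (CommRingCat.of Ω)) ∈ Set.range j'.base
    · obtain ⟨h1, h0⟩ := hA ξ h
      exact (ShortComplex.exact_iff_epi _ (h0.eq_of_tgt _ _)).2 (@IsIso.epi_of_iso _ _ _ _ _ h1)
    · by_cases h2 : ξ.base (default : Spec (CommRingCat.of Ω)) ∈ Set.range j.base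
      · obtain ⟨h0, h1⟩ := hB ξ h2 h
        exact (ShortComplex.exact_iff_mono _ (h0.eq_of_src _ _)).2 (@IsIso.mono_of_iso _ _ _ _ _ h1)
      · exact ShortComplex.exact_of_isZero_X₂ _ (hC ξ h2 _)
  · haveI : Mono (ι ≫ b) := hι ▸ inferInstance
    exact mono_of_mono ι b
  · refine (epi_iff_stalks _).2 fun Ω _ _ ξ => ?_
    by_cases h2 : ξ.base (default : Spec (CommRingCat.of Ω)) ∈ Set.range j.base
    · by_cases h : ξ.base (default : Spec (CommRingCat.of Ω)) ∈ Set.range j'.base
      · exact fun y => ⟨0, @Subsingleton.elim _ (AddCommGrpCat.subsingleton_of_isZero (hA ξ h).2) _ y⟩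
      · exact ((ConcreteCategory.isIso_iff_bijective _).1 (hB ξ h2 h).2).2
    · exact fun y => ⟨0, @Subsingleton.elim _ (AddCommGrpCat.subsingleton_of_isZero (hC ξ h2 _)) _ y⟩

end Step

/-- A constructible sheaf has a filtration by extensions by zero of locally constant sheaves. -/
theorem exists_filtration {X : Scheme.{u}} [CompactSpace X] [QuasiSeparatedSpace X] (F : EtCoh.Ab X)
    (hF : EtPBC.IsConstructible F) :
    ∃ (n : ℕ) (E : Fin (n + 1) → EtCoh.Ab X) (ι : ∀ k : Fin n, E k.castSucc ⟶ E k.succ),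
      IsZero (E 0) ∧ Nonempty (E (Fin.last n) ≅ F) ∧
      ∀ k : Fin n, ∃ (U W : Scheme.{u}) (j : U ⟶ X) (_ : IsOpenImmersion j) (c : W ⟶ U)
        (_ : IsClosedImmersion c) (G : EtCoh.Ab W)
        (π : E k.succ ⟶ (EtShriek.extZero j).obj ((EtCoh.push c).obj G)) (hz : ι k ≫ π = 0),
        Topology.IsConstructible (Set.range (c ≫ j)) ∧ EtCoh.IsFiniteLocallyConstant G ∧
        (ShortComplex.mk (ι k) π hz).ShortExact := by
  obtain ⟨N, V, h0, hN, hm, hV⟩ := exists_chain_pieces hF
  let E : Fin (N + 1) → EtCoh.Ab X := fun k =>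
    (EtShriek.extZero (V k).ι).obj ((EtShriek.restrAlong (V k).ι).obj F)
  have key : ∀ k : Fin N, ∃ (ι : E k.castSucc ⟶ E k.succ) (U W : Scheme.{u}) (j : U ⟶ X) (_ : IsOpenImmersion j)
      (c : W ⟶ U) (_ : IsClosedImmersion c) (G : EtCoh.Ab W)
      (π : E k.succ ⟶ (EtShriek.extZero j).obj ((EtCoh.push c).obj G)) (hz : ι ≫ π = 0),
      Topology.IsConstructible (Set.range (c ≫ j)) ∧ EtCoh.IsFiniteLocallyConstant G ∧
        (ShortComplex.mk ι π hz).ShortExact := by
    intro k
    obtain ⟨⟨T, g, hg, hgr, hT⟩, hcons⟩ := hV k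
    let j := (V ((k : ℕ) + 1)).ι
    have hle : Set.range g.base ⊆ Set.range j.base := by
      rw [hgr, Scheme.Opens.range_ι]; exact Set.diff_subset
    let c := IsOpenImmersion.lift j g hle
    have hfac : c ≫ j = g := IsOpenImmersion.lift_fac _ _ _
    haveI : IsPreimmersion c := by
      haveI : IsPreimmersion (c ≫ j) := hfac.symm ▸ inferInstance
      exact IsPreimmersion.of_comp c j
    haveI : IsClosedImmersion c := IsClosedImmersion.of_isPreimmersion c (by
      have h1 : j.base ⁻¹' Set.range g.base = Set.range c.base := by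
        rw [← hfac, Scheme.Hom.comp_base, TopCat.coe_comp, Set.range_comp, Set.preimage_image_eq _ j.isOpenEmbedding.injective]
      rw [← h1, hgr]
      have h2 : j.base ⁻¹' ((V ((k : ℕ) + 1) : Set X) \ (V k : Set X)) = (j.base ⁻¹' (V k : Set X))ᶜ := by
        ext x
        exact ⟨fun h => h.2, fun h => ⟨Scheme.Opens.range_ι _ ▸ Set.mem_range_self x, h⟩⟩
      rw [h2]
      exact ((V k).2.preimage j.continuous).isClosed_compl)
    obtain ⟨ι, π, hz, hex⟩ := exists_step (V k).ι j c F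
      (by rw [Scheme.Opens.range_ι, Scheme.Opens.range_ι]; exact hm k)
      (by rw [hfac, hgr, Scheme.Opens.range_ι, Scheme.Opens.range_ι])
    refine ⟨ι, _, T, j, inferInstance, c, inferInstance, (EtCoh.pull c).obj ((EtShriek.restrAlong j).obj F), π, hz,
      ?_, ?_, hex⟩
    · rw [hfac, hgr]; exact hcons
    · have hT' : EtCoh.IsFiniteLocallyConstant ((EtCoh.pull (c ≫ j)).obj F) := by rw! [hfac]; exact hT
      exact isFiniteLocallyConstant_of_iso
        ((pullCompAb c j).app F ≪≫ (EtCoh.pull c).mapIso ((restrPullIso j).app F).symm) hT'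
  choose ι hι using key
  refine ⟨N, E, ι, ?_, ?_, hι⟩
  · refine (IsZero.iff_id_eq_zero _).2 (eq_of_stalks _ _ fun Ω _ _ ξ => (isZero_stalk_extZero _ ξ ?_ _).eq_of_src _ _)
    rw [Scheme.Opens.range_ι]
    simp [h0]
  · haveI := extZero_iso_of_outside (V N).ι F fun Ω _ _ ξ h => (h (by rw [Scheme.Opens.range_ι, hN]; trivial)).elim
    exact ⟨asIso ((EtShriek.extZeroAdj (V N).ι).counit.app F)⟩

end Groth.Agent.Filtr13
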